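import Mathlib
import Cfsg.Agent.OddChar.PowTwist
import Cfsg.Agent.Lib.Characters.Kernel
import Cfsg.Agent.Lib.Characters.Counting

/-!
Galois twists `g ↦ g ^ k` of class functions and a numerical function.
-/

set_option autoImplicit false
set_option linter.style.haveILetI false

namespace Cfsg.Agent.BlockCharsA.PBound

open Cfsg.Agent.Characters Cfsg.Agent.CharTheory

universe u

variable {G : Type u} [Group G] {N : ℕ}

/-- the twist by a unit mod `N` -/
def tw (χ : G → ℂ) (k : (ZMod N)ˣ) : G → ℂ := fun g => χ (g ^ (k : ZMod N).val)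

theorem pow_eq_one_of_dvd [Finite G] (hd : Nat.card G ∣ N) (g : G) : g ^ N = 1 :=
  orderOf_dvd_iff_pow_eq_one.mp ((orderOf_dvd_natCard g).trans hd)

theorem pow_val_mul [Finite G] (hd : Nat.card G ∣ N) (g : G) (k l : (ZMod N)ˣ) :
    g ^ ((k * l : (ZMod N)ˣ) : ZMod N).val = (g ^ (k : ZMod N).val) ^ (l : ZMod N).val := by
  rw [Units.val_mul, ZMod.val_mul, ← pow_eq_pow_mod _ (pow_eq_one_of_dvd hd g), pow_mul]

theorem pow_val_one [Finite G] (hd : Nat.card G ∣ N) (g : G) :
    g ^ ((1 : (ZMod N)ˣ) : ZMod N).val = g := by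
  rw [Units.val_one, ZMod.val_one_eq_one_mod, ← pow_eq_pow_mod _ (pow_eq_one_of_dvd hd g), pow_one]

theorem val_coprime [NeZero N] (hd : Nat.card G ∣ N) (k : (ZMod N)ˣ) :
    (k : ZMod N).val.Coprime (Nat.card G) :=
  (ZMod.val_coe_unit_coprime k).coprime_dvd_right hd

theorem tw_irr [Finite G] [NeZero N] (hd : Nat.card G ∣ N) {χ : G → ℂ}
    (hχ : Cfsg.IsIrrCharacter G χ) (k : (ZMod N)ˣ) : Cfsg.IsIrrCharacter G (tw χ k) := by
  haveI := Fintype.ofFinite G
  exact OddChar.PowTwist.isIrr_comp_pow hχ (val_coprime hd k)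

/-- the stabilizer of `χ` among the twists -/
noncomputable def St [Finite G] (hd : Nat.card G ∣ N) (χ : G → ℂ) : Subgroup (ZMod N)ˣ where
  carrier := {k | ∀ g, χ (g ^ (k : ZMod N).val) = χ g}
  one_mem' g := by rw [pow_val_one hd]
  mul_mem' {k l} hk hl g := by rw [pow_val_mul hd, hl, hk]
  inv_mem' {k} hk g := by
    rw [← hk (g ^ ((k⁻¹ : (ZMod N)ˣ) : ZMod N).val), ← pow_val_mul hd, inv_mul_cancel,
      pow_val_one hd]

theorem mem_St [Finite G] {hd : Nat.card G ∣ N} {χ : G → ℂ} {k : (ZMod N)ˣ} :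
    k ∈ St hd χ ↔ tw χ k = χ :=
  ⟨fun h => funext h, fun h g => congrFun h g⟩

theorem tw_mul [Finite G] (hd : Nat.card G ∣ N) (χ : G → ℂ) (k l : (ZMod N)ˣ) :
    tw χ (k * l) = tw (tw χ l) k := by
  funext g
  show χ _ = χ _
  rw [pow_val_mul hd]

theorem tw_one [Finite G] (hd : Nat.card G ∣ N) (χ : G → ℂ) : tw χ (1 : (ZMod N)ˣ) = χ := by
  funext g
  show χ _ = χ g
  rw [pow_val_one hd]

/-- twisting only depends on the coset of the stabilizer -/
theorem tw_eq_iff [Finite G] (hd : Nat.card G ∣ N) (χ : G → ℂ) (k l : (ZMod N)ˣ) :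
    tw χ k = tw χ l ↔ k⁻¹ * l ∈ St hd χ := by
  rw [mem_St, tw_mul hd]
  constructor
  · intro h
    rw [← h, ← tw_mul hd, inv_mul_cancel, tw_one hd]
  · intro h
    have h2 := congrArg (fun f => tw f k) h
    rw [← tw_mul hd, mul_inv_cancel, tw_one hd] at h2
    exact h2.symm

/-- powers of an element in the kernel stay in the kernel -/
theorem ker_pow [Finite G] {χ : G → ℂ} (h : Cfsg.IsCharacter G χ) {g : G} (hg : χ g = χ 1)
    (k : ℕ) : χ (g ^ k) = χ 1 :=
  mem_charKernel.mp ((charKernel χ h).pow_mem (mem_charKernel.mpr hg) k)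

theorem charKernel_tw [Finite G] (hd : Nat.card G ∣ N) {χ : G → ℂ} (h : Cfsg.IsCharacter G χ)
    (k : (ZMod N)ˣ) {g : G} : tw χ k g = tw χ k 1 ↔ χ g = χ 1 := by
  refine ⟨fun hg => ?_, fun hg => ?_⟩
  · simp only [tw, one_pow] at hg
    have h2 := ker_pow h hg ((k⁻¹ : (ZMod N)ˣ) : ZMod N).val
    rwa [← pow_val_mul hd, mul_inv_cancel, pow_val_one hd] at h2
  · simp only [tw, one_pow]
    exact ker_pow h hg _

/-- `h p m = m + v_p (m!)` -/
def hfun (p m : ℕ) : ℕ := m + padicValNat p m.factorial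

theorem hfun_eq_sum (p : ℕ) [hp : Fact p.Prime] (m n : ℕ) (hmn : m ≤ n) :
    hfun p m = ∑ i ∈ Finset.range (n + 1), m / p ^ i := by
  have hlog : Nat.log p m < n + 1 :=
    Nat.lt_succ_of_le ((Nat.log_le_self p m).trans hmn)
  rw [hfun, padicValNat_factorial hlog, Finset.range_eq_Ico,
    Finset.sum_eq_sum_Ico_succ_bot (Nat.succ_pos n)]
  simp

theorem hfun_superadd (p : ℕ) [hp : Fact p.Prime] (a b : ℕ) :
    hfun p a + hfun p b ≤ hfun p (a + b) := by
  have hd := Nat.factorial_mul_factorial_dvd_factorial_add a b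
  have h1 : padicValNat p (a.factorial * b.factorial) ≤ padicValNat p (a + b).factorial := by
    obtain ⟨c, hc⟩ := hd
    have hc0 : c ≠ 0 := fun h0 => Nat.factorial_ne_zero (a + b) (by rw [hc, h0, mul_zero])
    rw [hc, padicValNat.mul (mul_ne_zero (Nat.factorial_ne_zero a) (Nat.factorial_ne_zero b)) hc0]
    exact Nat.le_add_right _ _
  rw [padicValNat.mul (Nat.factorial_ne_zero a) (Nat.factorial_ne_zero b)] at h1
  unfold hfun; omega

theorem hfun_mono (p : ℕ) [hp : Fact p.Prime] {a b : ℕ} (h : a ≤ b) : hfun p a ≤ hfun p b := by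
  obtain ⟨c, rfl⟩ := Nat.exists_eq_add_of_le h
  exact le_trans (Nat.le_add_right _ _) (hfun_superadd p a c)

theorem hfun_sum (p : ℕ) [hp : Fact p.Prime] {ι : Type*} (s : Finset ι) (f : ι → ℕ) :
    ∑ i ∈ s, hfun p (f i) ≤ hfun p (∑ i ∈ s, f i) := by
  classical
  induction s using Finset.induction_on with
  | empty => simp
  | insert a s ha ih =>
    rw [Finset.sum_insert ha, Finset.sum_insert ha]
    exact le_trans (Nat.add_le_add_left ih _) (hfun_superadd p _ _)

theorem hfun_pow (p : ℕ) [hp : Fact p.Prime] (j : ℕ) :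
    (p - 1) * hfun p (p ^ j) + 1 = p ^ (j + 1) := by
  induction j with
  | zero =>
    rw [pow_zero, hfun, Nat.factorial_one, padicValNat.one]
    have := hp.out.one_lt
    simp; omega
  | succ j ih =>
    have e : hfun p (p ^ (j + 1)) = p ^ (j + 1) + hfun p (p ^ j) := by
      rw [hfun, hfun, pow_succ' p j, padicValNat_factorial_mul]
      ring
    rw [e, mul_add, add_assoc, ih]
    have := hp.out.one_lt
    obtain ⟨q, rfl⟩ := Nat.exists_eq_add_of_le this.le
    rw [Nat.add_sub_cancel_left]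
    ring

/-- the orbit estimate -/
theorem le_hfun_pow (p : ℕ) [hp : Fact p.Prime] (k t a : ℕ)
    (h : (p - 1) * a ≤ p ^ k - 1 + (p - 1) * (t + 1) * p ^ k) :
    a ≤ hfun p (p ^ (k + t)) := by
  have h1 := hfun_pow p (k + t)
  have hp1 : 0 < p - 1 := Nat.sub_pos_of_lt hp.out.one_lt
  refine Nat.le_of_mul_le_mul_left ?_ hp1
  have hb : ∀ s, 1 + (p - 1) * s ≤ p ^ s := by
    intro s
    induction s with
    | zero => simp
    | succ s ih =>
      obtain ⟨q, rfl⟩ := Nat.exists_eq_add_of_le hp.out.one_lt.le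
      rw [Nat.add_sub_cancel_left] at ih ⊢
      rw [pow_succ]
      nlinarith [Nat.one_le_pow s (1 + q) (by omega)]
  have h2 := Nat.mul_le_mul_left (p ^ k) (hb (t + 1))
  rw [← pow_add, ← add_assoc, mul_add, mul_one] at h2
  have h3 : p ^ k * ((p - 1) * (t + 1)) = (p - 1) * (t + 1) * p ^ k := mul_comm _ _
  have h4 : 0 < p ^ k := pow_pos hp.out.pos k
  omega

end Cfsg.Agent.BlockCharsA.PBound
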