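import Mathlib
import Cfsg.Agent.BlockCharsA.CanonicalExt
import Cfsg.Agent.Lib.Characters.Normal
import Cfsg.Agent.OddChar.PowTwist

/-!
An invariant character of a normal Hall subgroup extends to a character fixed by the power maps
that fix the subgroup.
-/

set_option autoImplicit false
set_option linter.style.haveILetI false

namespace Cfsg.Agent.BlockCharsA.PBound

open Cfsg.Agent.Characters Cfsg.Agent.CharTheory

universe u

theorem exists_invariant_extension {Γ : Type u} [Group Γ] [Fintype Γ] (K : Subgroup Γ) [K.Normal]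
    [Fintype K] (hcop : (Nat.card K).Coprime K.index) (φ : K → ℂ) (hφ : Cfsg.IsCharacter K φ)
    (hinv : ∀ x : Γ, conjFun K φ x = φ) :
    ∃ Ψ : Γ → ℂ, Cfsg.IsCharacter Γ Ψ ∧ (∀ n : K, Ψ n = φ n) ∧
      ∀ k : ℕ, k.Coprime (Nat.card Γ) → k ≡ 1 [MOD Nat.card K] → ∀ y, Ψ (y ^ k) = Ψ y := by
  obtain ⟨d, hd⟩ := char_one_nat hφ
  induction d using Nat.strong_induction_on generalizing φ with
  | _ d ih =>
  classical
  rcases Nat.eq_zero_or_pos d with rfl | hdpos
  · have h0 : φ = 0 := by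
      obtain ⟨n, ρ, hρ⟩ := hφ
      have h1 : ρ.character 1 = 0 := by rw [hρ, hd, Nat.cast_zero]
      rw [ρ.char_one, Nat.cast_eq_zero] at h1
      haveI : Subsingleton (Fin n → ℂ) := Module.finrank_zero_iff.mp h1
      rw [← hρ]
      funext g
      show LinearMap.trace ℂ (Fin n → ℂ) (ρ g) = 0
      rw [Subsingleton.elim (ρ g) 0, map_zero]
    exact ⟨0, isCharacter_zero, fun n => by rw [h0]; rfl, fun _ _ _ _ => rfl⟩
  haveI := Fintype.ofFinite (Cfsg.IrrCharacter K)
  obtain ⟨θ, hθ⟩ : ∃ θ : Cfsg.IrrCharacter K, Cfsg.classInner φ (θ : K → ℂ) ≠ 0 := by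
    by_contra h
    push Not at h
    have h1 := congrFun (classFun_eq_sum (char_isClassFunction hφ)) 1
    simp [Finset.sum_apply, h, hd] at h1
    omega
  let T : Subgroup Γ :=
    { carrier := {g | conjFun K (θ : K → ℂ) g = (θ : K → ℂ)}
      one_mem' := funext fun n => congrArg (θ : K → ℂ) (Subtype.ext (by simp))
      mul_mem' := fun {a b} (ha : _ = _) (hb : _ = _) => by
        show conjFun K _ _ = _
        rw [conjFun_mul, ha, hb]
      inv_mem' := fun {a} (ha : _ = _) => by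
        show conjFun K _ _ = _
        conv_lhs => rw [← ha]
        rw [← conjFun_mul, mul_inv_cancel]
        exact funext fun n => congrArg (θ : K → ℂ) (Subtype.ext (by simp)) }
  have hmemT : ∀ g, g ∈ T ↔ conjFun K (θ : K → ℂ) g = (θ : K → ℂ) := fun g => Iff.rfl
  have hKT : K ≤ T := fun g hg => (hmemT g).mpr (funext fun n =>
    (congrArg _ (Subtype.ext rfl)).trans (char_isClassFunction (irr_isCharacter θ) n ⟨g, hg⟩))
  haveI := Fintype.ofFinite T
  set K' := K.subgroupOf T with hK'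
  haveI := Fintype.ofFinite K'
  let e : K' ≃* K := Subgroup.subgroupOfEquivOfLe hKT
  have he : ∀ n : K', ((e n : K) : Γ) = ((n : T) : Γ) := fun n => rfl
  let θ' : Cfsg.IrrCharacter K' :=
    ⟨(θ : K → ℂ) ∘ e, (isIrrCharacter_comp_mulEquiv e).mpr θ.2⟩
  have hidx : (Nat.card K').Coprime K'.index := by
    rw [Nat.card_congr e.toEquiv]
    exact hcop.coprime_dvd_right (Subgroup.relIndex_dvd_index_of_le hKT)
  obtain ⟨χh, hext, hdet⟩ := CanonicalExt.exists_canonical K' ⊤ hidx (sup_top_eq _) θ'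
    (fun s _ g g' hg => by
      have h1 := congrFun ((hmemT s).mp s.2) (e g)
      refine Eq.trans (congrArg (θ : K → ℂ) (Subtype.ext ?_)) h1
      show ((g' : T) : Γ) = (s : Γ) * ((g : T) : Γ) * (s : Γ)⁻¹
      rw [hg]; rfl)
  set Ψ0 := Cfsg.indFun T (χh : T → ℂ) with hΨ0
  have hΨ0c : Cfsg.IsCharacter Γ Ψ0 := isCharacter_indFun T (irr_isCharacter χh)
  have hres : (fun n : K => Ψ0 n) = (Nat.card T : ℂ)⁻¹ • ∑ x : Γ, conjFun K (θ : K → ℂ) x⁻¹ := by
    funext n
    simp only [hΨ0, Cfsg.indFun, Pi.smul_apply, Finset.sum_apply, smul_eq_mul]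
    congr 1
    refine Finset.sum_congr rfl fun x _ => ?_
    have hm : x⁻¹ * n * x ∈ K := by simpa using ‹K.Normal›.conj_mem n n.2 x⁻¹
    rw [IndBasic.extendByZero_of_mem T _ (hKT hm)]
    refine (hext ⟨⟨_, hKT hm⟩, hm⟩).trans (congrArg (θ : K → ℂ) (Subtype.ext ?_))
    show x⁻¹ * (n : Γ) * x = _
    simp
  have hinner : ∀ η : Cfsg.IrrCharacter K, Cfsg.classInner (fun n : K => Ψ0 n) (η : K → ℂ) =
      if ∃ x, conjFun K (θ : K → ℂ) x = (η : K → ℂ) then 1 else 0 := by
    intro η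
    rw [hres, classInner_smul_left, classInner_sum_left]
    have hval : ∀ x : Γ, Cfsg.classInner (conjFun K (θ : K → ℂ) x⁻¹) (η : K → ℂ) =
        if conjFun K (θ : K → ℂ) x⁻¹ = (η : K → ℂ) then 1 else 0 := fun x => by
      split_ifs with h
      · rw [h]; exact classInner_isIrr_self η.2
      · exact classInner_isIrr_ne (isIrrCharacter_conjFun K θ.2 _) η.2 h
    simp only [hval, Finset.sum_boole]
    split_ifs with h
    · obtain ⟨x0, hx0⟩ := h
      rw [Nat.card_eq_fintype_card, inv_mul_eq_one₀ (Nat.cast_ne_zero.mpr Fintype.card_ne_zero)]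
      refine congrArg Nat.cast ?_
      rw [← Fintype.card_subtype]
      refine Fintype.card_congr
        { toFun := fun t => ⟨x0⁻¹ * t, ?_⟩
          invFun := fun x => ⟨x0 * x.1, ?_⟩
          left_inv := fun t => Subtype.ext (mul_inv_cancel_left x0 (t : Γ))
          right_inv := fun x => Subtype.ext (inv_mul_cancel_left x0 x.1) }
      · rw [mul_inv_rev, inv_inv, conjFun_mul, (hmemT _).mp (T.inv_mem t.2), hx0]
      · refine (hmemT _).mpr ?_
        have h2 : conjFun K (θ : K → ℂ) x.1⁻¹ = conjFun K (θ : K → ℂ) x0 := x.2.trans hx0.symm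
        rw [conjFun_mul, ← h2, ← conjFun_mul, inv_mul_cancel]
        exact funext fun n => congrArg (θ : K → ℂ) (Subtype.ext (by simp))
    · rw [Finset.filter_eq_empty_iff.mpr fun x _ hx => h ⟨x⁻¹, hx⟩, Finset.card_empty,
        Nat.cast_zero, mul_zero]
  have hmult : ∀ x : Γ, Cfsg.classInner φ (conjFun K (θ : K → ℂ) x) =
      Cfsg.classInner φ (θ : K → ℂ) := by
    intro x
    conv_lhs => rw [← hinv x]
    rw [classInner_def, classInner_def]
    congr 1
    exact Fintype.sum_equiv (conjAut K x).toEquiv _ _ fun n => rfl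
  set φ1 : K → ℂ := φ - fun n : K => Ψ0 n with hφ1
  have hΨ0res : Cfsg.IsCharacter K (fun n : K => Ψ0 n) := isCharacter_restrict K hΨ0c
  have hφ1c : Cfsg.IsCharacter K φ1 := by
    refine isCharacter_of_classInner_nat (fun a b => ?_) fun η hη => ?_
    · simp [hφ1, char_isClassFunction hφ a b, char_isClassFunction hΨ0c (a : Γ) (b : Γ)]
    · obtain ⟨m, hm⟩ := classInner_char_nat hφ (isCharacter_of_isIrr hη)
      rw [hφ1, classInner_sub_left, hinner ⟨η, hη⟩]
      split_ifs with h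
      · obtain ⟨x, hx⟩ := h
        have hm0 : m ≠ 0 := fun h0 => hθ (by
          rw [← hmult x, hx, hm, h0, Nat.cast_zero])
        obtain ⟨m', rfl⟩ := Nat.exists_eq_succ_of_ne_zero hm0
        exact ⟨m', by rw [hm]; push_cast; ring⟩
      · exact ⟨m, by rw [sub_zero, hm]⟩
  have hφ1inv : ∀ x : Γ, conjFun K φ1 x = φ1 := by
    intro x
    funext n
    show φ ⟨x * n * x⁻¹, _⟩ - Ψ0 (x * n * x⁻¹) = φ n - Ψ0 n
    rw [char_isClassFunction hΨ0c (n : Γ) x]
    exact congrArg (· - _) (congrFun (hinv x) n)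
  obtain ⟨d1, hd1⟩ := char_one_nat hφ1c
  obtain ⟨a, ha, ha'⟩ := irr_one_pos χh.2
  have hlt : d1 < d := by
    have h : φ1 1 = φ 1 - Ψ0 1 := rfl
    rw [hd1, hd, hΨ0, indFun_one, ha'] at h
    have h' : d1 + T.index * a = d := by
      have : ((d1 + T.index * a : ℕ) : ℂ) = (d : ℂ) := by push_cast; rw [h]; ring
      exact_mod_cast this
    have : 0 < T.index * a := Nat.mul_pos (Nat.pos_of_ne_zero T.index_ne_zero_of_finite) ha
    omega
  obtain ⟨Ψ1, hΨ1c, hΨ1r, hΨ1p⟩ := ih d1 hlt φ1 hφ1c hφ1inv hd1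
  refine ⟨Ψ1 + Ψ0, isCharacter_add hΨ1c hΨ0c, fun n => ?_, fun k hk hk1 y => ?_⟩
  · rw [Pi.add_apply, hΨ1r, hφ1]
    exact sub_add_cancel _ _
  · rw [Pi.add_apply, Pi.add_apply, hΨ1p k hk hk1]
    refine congrArg (Ψ1 y + ·) ?_
    rw [hΨ0, OddChar.PowTwist.indFun_comp_pow T _ hk]
    congr 1
    funext t
    refine CanonicalExt.twist K' hext hidx hdet ?_ ?_ t
    · rwa [Nat.card_congr e.toEquiv]
    · exact hk.coprime_dvd_right (K'.index_dvd_card.trans T.card_subgroup_dvd_card)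

end Cfsg.Agent.BlockCharsA.PBound
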