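import Mathlib
import Cfsg.Agent.BlockCharsA.PBound.Defs
import Cfsg.Agent.Lib.Characters.Galois

/-!
The degree of the field of values is the length of the orbit under twists.
-/

set_option autoImplicit false
set_option linter.style.haveILetI false

namespace Cfsg.Agent.BlockCharsA.PBound

open Cfsg.Agent.Characters Polynomial IntermediateField

universe u

theorem finrank_values {G : Type u} [Group G] [Finite G] {N : ℕ} [NeZero N] (hd : Nat.card G ∣ N)
    {χ : G → ℂ} (hχ : Cfsg.IsCharacter G χ) :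
    Module.finrank ℚ (IntermediateField.adjoin ℚ (Set.range χ)) = (St hd χ).index := by
  classical
  obtain ⟨m, ρ, rfl⟩ := hχ
  have hN : 0 < N := Nat.pos_of_ne_zero (NeZero.ne N)
  set ζ := Complex.exp (2 * Real.pi * Complex.I / N) with hζdef
  have hζ : IsPrimitiveRoot ζ N := Complex.isPrimitiveRoot_exp N hN.ne'
  have hint : IsIntegral ℚ ζ := (hζ.isIntegral hN).tower_top
  set L := IntermediateField.adjoin ℚ ({ζ} : Set ℂ) with hLdef
  haveI : FiniteDimensional ℚ L := IntermediateField.adjoin.finiteDimensional hint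
  let ζ' : L := ⟨ζ, IntermediateField.mem_adjoin_simple_self ℚ ζ⟩
  have hζ' : IsPrimitiveRoot ζ' N := IsPrimitiveRoot.coe_submonoidClass_iff.mp hζ
  haveI : IsCyclotomicExtension {N} ℚ L := by
    haveI : IsCyclotomicExtension {N} ℚ (Algebra.adjoin ℚ ({ζ} : Set ℂ)) :=
      hζ.adjoin_isCyclotomicExtension ℚ
    exact IsCyclotomicExtension.equiv {N} ℚ _ (Subalgebra.equivOfEq _ L.toSubalgebra
      (IntermediateField.adjoin_simple_toSubalgebra_of_isAlgebraic hint.isAlgebraic).symm)
  set ee := hζ'.embeddingsEquivPrimitiveRoots ℂ (Polynomial.cyclotomic.irreducible_rat hN) with hee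
  have hroot : ∀ k : (ZMod N)ˣ, ζ ^ (k : ZMod N).val ∈ primitiveRoots N ℂ := fun k =>
    (mem_primitiveRoots hN).mpr (hζ.pow_of_coprime _ (ZMod.val_coe_unit_coprime k))
  set σ : (ZMod N)ˣ → (L →ₐ[ℚ] ℂ) := fun k => ee.symm ⟨_, hroot k⟩ with hσdef
  have hσ : ∀ k, σ k ζ' = ζ ^ (k : ZMod N).val := by
    intro k
    have h := congrArg Subtype.val (ee.apply_symm_apply ⟨_, hroot k⟩)
    rwa [hee, IsPrimitiveRoot.embeddingsEquivPrimitiveRoots_apply_coe] at h
  have hval : ∀ g : G, ∃ x : L, (x : ℂ) = ρ.character g ∧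
      ∀ k : (ZMod N)ˣ, σ k x = ρ.character (g ^ (k : ZMod N).val) := by
    intro g
    obtain ⟨P, hP⟩ := exists_poly_values ρ g hN (pow_eq_one_of_dvd hd g) hζ
    refine ⟨aeval ζ' P, ?_, fun k => ?_⟩
    · have h1 := hP 1
      rw [pow_one, pow_one] at h1
      rw [h1]
      exact (aeval_algHom_apply L.val ζ' P).symm
    · rw [← aeval_algHom_apply, hσ, ← hP]
  set F := IntermediateField.adjoin ℚ (Set.range ρ.character) with hF
  have hFL : F ≤ L := by
    rw [hF, IntermediateField.adjoin_le_iff]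
    rintro _ ⟨g, rfl⟩
    obtain ⟨x, hx, -⟩ := hval g
    exact hx ▸ x.2
  haveI : FiniteDimensional ℚ F := FiniteDimensional.of_injective
    (IntermediateField.inclusion hFL).toLinearMap (IntermediateField.inclusion_injective hFL)
  have hgen : ∀ (k : (ZMod N)ˣ) (g : G) (hm : ρ.character g ∈ F),
      (σ k).comp (IntermediateField.inclusion hFL) ⟨_, hm⟩ =
        ρ.character (g ^ (k : ZMod N).val) := by
    intro k g hm
    obtain ⟨x, hx, hx'⟩ := hval g
    rw [← hx' k]
    exact congrArg (σ k) (Subtype.ext hx.symm)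
  have hker : ∀ k l : (ZMod N)ˣ,
      (σ k).comp (IntermediateField.inclusion hFL) = (σ l).comp (IntermediateField.inclusion hFL) ↔
        k⁻¹ * l ∈ St hd ρ.character := by
    intro k l
    rw [← tw_eq_iff hd]
    constructor
    · intro h
      funext g
      have hm : ρ.character g ∈ F := IntermediateField.subset_adjoin ℚ _ ⟨g, rfl⟩
      show ρ.character _ = ρ.character _
      rw [← hgen k g hm, ← hgen l g hm, h]
    · intro h
      refine AlgHom.ext fun x => ?_
      obtain ⟨x, hx⟩ := x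
      induction hx using IntermediateField.adjoin_induction with
      | mem y hy =>
        obtain ⟨g, rfl⟩ := hy
        rw [hgen, hgen]
        exact congrFun h g
      | algebraMap q =>
        exact (AlgHom.commutes _ q).trans (AlgHom.commutes _ q).symm
      | add y z hy hz iy iz =>
        exact ((map_add _ (⟨y, hy⟩ : F) ⟨z, hz⟩).trans (congrArg₂ (· + ·) iy iz)).trans
          (map_add _ (⟨y, hy⟩ : F) ⟨z, hz⟩).symm
      | inv y hy iy =>
        exact ((map_inv₀ _ (⟨y, hy⟩ : F)).trans (congrArg (·⁻¹) iy)).trans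
          (map_inv₀ _ (⟨y, hy⟩ : F)).symm
      | mul y z hy hz iy iz =>
        exact ((map_mul _ (⟨y, hy⟩ : F) ⟨z, hz⟩).trans (congrArg₂ (· * ·) iy iz)).trans
          (map_mul _ (⟨y, hy⟩ : F) ⟨z, hz⟩).symm
  have hsurj : ∀ f : F →ₐ[ℚ] ℂ, ∃ k, (σ k).comp (IntermediateField.inclusion hFL) = f := by
    intro f
    letI : Algebra F L := (IntermediateField.inclusion hFL).toRingHom.toAlgebra
    haveI : IsScalarTower ℚ F L := IsScalarTower.of_algebraMap_eq fun q => rfl
    haveI : Algebra.IsAlgebraic F L := Algebra.IsAlgebraic.tower_top (K := ℚ) F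
    obtain ⟨φ, hφ⟩ := IntermediateField.exists_algHom_of_splits' (E := L) f
      fun s => ⟨Algebra.IsIntegral.isIntegral s, IsAlgClosed.splits _⟩
    have hp : φ ζ' ∈ primitiveRoots N ℂ :=
      (mem_primitiveRoots hN).mpr (hζ'.map_of_injective φ.injective)
    obtain ⟨i, hi, hic, hiζ⟩ := (hζ.isPrimitiveRoot_iff (ξ := φ ζ') (k := N)).1
      ((mem_primitiveRoots hN).mp hp)
    refine ⟨ZMod.unitOfCoprime i hic, ?_⟩
    have e1 : σ (ZMod.unitOfCoprime i hic) = φ := by
      refine ee.injective (Subtype.ext ?_)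
      rw [hσdef]
      simp only [Equiv.apply_symm_apply]
      rw [hee, IsPrimitiveRoot.embeddingsEquivPrimitiveRoots_apply_coe, ZMod.coe_unitOfCoprime,
        ZMod.val_natCast_of_lt hi, hiζ]
    rw [e1, ← hφ]
    rfl
  rw [← AlgHom.card ℚ F ℂ, ← Nat.card_eq_fintype_card, Subgroup.index]
  symm
  refine Nat.card_eq_of_bijective (fun q : (ZMod N)ˣ ⧸ St hd ρ.character =>
    (σ q.out).comp (IntermediateField.inclusion hFL)) ⟨?_, ?_⟩
  · intro q q' h
    rw [← QuotientGroup.out_eq' q, ← QuotientGroup.out_eq' q', QuotientGroup.eq]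
    exact (hker _ _).mp h
  · intro f
    obtain ⟨k, rfl⟩ := hsurj f
    exact ⟨QuotientGroup.mk k, (hker _ _).mpr (QuotientGroup.eq.mp (QuotientGroup.out_eq' _))⟩

end Cfsg.Agent.BlockCharsA.PBound
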