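import Mathlib
import Cfsg.Agent.BlockCharsA.PBound.Defs
import Cfsg.Agent.Lib.Characters.Monomial
import Cfsg.Agent.Lib.Characters.Normal

/-!
The order of `P / ker χ` against the degree and the field of values of an irreducible `χ`.
-/

set_option autoImplicit false
set_option linter.style.haveILetI false

namespace Cfsg.Agent.BlockCharsA.PBound

open Cfsg.Agent.Characters Cfsg.Agent.CharTheory

universe u

theorem char_eq_irr_of_degree {G : Type u} [Group G] [Fintype G] {ξ η : G → ℂ}
    (hξ : Cfsg.IsCharacter G ξ) (hη : Cfsg.IsIrrCharacter G η)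
    (hne : Cfsg.classInner ξ η ≠ 0) (h1 : ξ 1 = η 1) : ξ = η := by
  have hηc := isCharacter_of_isIrr hη
  have hd : Cfsg.IsCharacter G (ξ - η) := by
    refine isCharacter_of_classInner_nat (fun a b => ?_) fun ζ hζ => ?_
    · simp [char_isClassFunction hξ a b, char_isClassFunction hηc a b]
    · rw [classInner_sub_left]
      obtain ⟨n, hn⟩ := classInner_char_nat hξ (isCharacter_of_isIrr hζ)
      by_cases h : η = ζ
      · subst h
        rw [classInner_isIrr_self hη]
        rw [hn] at hne
        obtain ⟨m, rfl⟩ := Nat.exists_eq_succ_of_ne_zero (fun h0 : n = 0 => hne (by simp [h0]))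
        exact ⟨m, by rw [hn]; push_cast; ring⟩
      · exact ⟨n, by rw [classInner_isIrr_ne hη hζ h, sub_zero, hn]⟩
  obtain ⟨n, ρ, hρ⟩ := hd
  have h0 : ρ.character 1 = 0 := by rw [hρ]; simp [h1]
  rw [ρ.char_one, Nat.cast_eq_zero] at h0
  haveI : Subsingleton (Fin n → ℂ) := Module.finrank_zero_iff.mp h0
  have hz : ρ.character = 0 := funext fun g => by
    show LinearMap.trace ℂ (Fin n → ℂ) (ρ g) = 0
    rw [Subsingleton.elim (ρ g) 0, map_zero]
  exact sub_eq_zero.mp (by rw [← hρ, hz])

/-- the conclusion for one character -/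
def Bound (p : ℕ) {N : ℕ} {G : Type u} [Group G] [Finite G] (hd : Nat.card G ∣ N) (χ : G → ℂ)
    (hc : Cfsg.IsCharacter G χ) (f : ℕ) : Prop :=
  ∃ t v, (St hd χ).index = (p - 1) * p ^ t ∧ (charKernel χ hc).index = p ^ v ∧
    (p - 1) * v ≤ f - 1 + (p - 1) * (t + 1) * f

section Linear

variable {p : ℕ} [hp : Fact p.Prime] {e : ℕ} {G : Type u} [Group G] [Finite G]

theorem bound_linear (hd : Nat.card G ∣ p ^ e) {χ : G → ℂ} (hc : Cfsg.IsCharacter G χ)
    (hnt : ∃ g, χ g ≠ χ 1) (h1 : χ 1 = 1) : Bound p hd χ hc 1 := by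
  haveI : NeZero (p ^ e) := ⟨pow_ne_zero _ hp.out.ne_zero⟩
  set lam := linearOfDegreeOne hc h1 with hlam
  have hker : charKernel χ hc = lam.ker := by
    ext g
    rw [mem_charKernel, MonoidHom.mem_ker, Units.ext_iff, hlam, linearOfDegreeOne_apply, h1,
      Units.val_one]
  have hidx : (charKernel χ hc).index = Nat.card lam.range := by rw [hker, Subgroup.index_ker]
  obtain ⟨v, -, hv⟩ := (Nat.dvd_prime_pow hp.out).mp
    (((charKernel χ hc).index_dvd_card).trans hd)
  haveI : Finite lam.range := Finite.of_surjective _ lam.rangeRestrict_surjective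
  haveI : IsCyclic lam.range := isCyclic_subgroup_units lam.range
  obtain ⟨z, hz⟩ := IsCyclic.exists_generator (α := lam.range)
  obtain ⟨g0, hg0⟩ := z.2
  have hord : orderOf (lam g0) = p ^ v := by
    rw [hg0, Subgroup.orderOf_coe, orderOf_eq_card_of_forall_mem_zpowers hz, ← hidx, hv]
  have hv0 : 0 < v := by
    rcases Nat.eq_zero_or_pos v with rfl | h
    · rw [pow_zero, Subgroup.index_eq_one] at hv
      obtain ⟨g, hg⟩ := hnt
      exact absurd (mem_charKernel.mp (hv ▸ Subgroup.mem_top g : g ∈ charKernel χ hc)) hg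
    · exact h
  have hdvd : p ^ v ∣ p ^ e := hv ▸ ((charKernel χ hc).index_dvd_card).trans hd
  have hSt : St hd χ = (ZMod.unitsMap hdvd).ker := by
    ext k
    rw [MonoidHom.mem_ker]
    constructor
    · intro hk
      have h2 : lam g0 ^ (k : ZMod (p ^ e)).val = lam g0 ^ 1 := by
        rw [← map_pow, pow_one]
        refine Units.ext ?_
        rw [hlam, linearOfDegreeOne_apply, linearOfDegreeOne_apply]
        exact hk g0
      rw [pow_eq_pow_iff_modEq, hord] at h2
      refine Units.ext ?_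
      rw [ZMod.unitsMap_val, Units.val_one]
      have h3 := (ZMod.natCast_eq_natCast_iff _ _ _).mpr h2
      rw [Nat.cast_one] at h3
      rw [← h3, ← ZMod.natCast_val]
    · intro hk g
      have h3 : (((k : ZMod (p ^ e)).val : ℕ) : ZMod (p ^ v)) = ((1 : ℕ) : ZMod (p ^ v)) := by
        have := congrArg (fun u : (ZMod (p ^ v))ˣ => (u : ZMod (p ^ v))) hk
        simp only [ZMod.unitsMap_val, Units.val_one] at this
        rw [ZMod.natCast_val, this, Nat.cast_one]
      have h4 := (ZMod.natCast_eq_natCast_iff _ _ _).mp h3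
      have hg : orderOf (lam g) ∣ p ^ v := by
        rw [← hv, hidx]
        have := orderOf_dvd_natCard (⟨lam g, g, rfl⟩ : lam.range)
        rwa [← Subgroup.orderOf_coe] at this
      have h5 : lam g ^ (k : ZMod (p ^ e)).val = lam g := by
        conv_rhs => rw [← pow_one (lam g)]
        exact pow_eq_pow_iff_modEq.mpr (h4.of_dvd hg)
      rw [← map_pow] at h5
      have h6 := congrArg Units.val h5
      simp only [hlam, linearOfDegreeOne_apply] at h6
      exact h6
  refine ⟨v - 1, v, ?_, hv, ?_⟩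
  · rw [hSt, Subgroup.index_ker, MonoidHom.range_eq_top.mpr (ZMod.unitsMap_surjective hdvd),
      Subgroup.card_top, Nat.card_eq_fintype_card, ZMod.card_units_eq_totient,
      Nat.totient_prime_pow hp.out hv0, mul_comm]
  · rw [Nat.sub_add_cancel hv0, mul_one]
    omega

end Linear

/-- The bound. -/
theorem bound_aux (p : ℕ) [hp : Fact p.Prime] (e : ℕ) (n : ℕ) : ∀ (G : Type u) [Group G] [Finite G]
    (hd : Nat.card G ∣ p ^ e), Nat.card G = n → ∀ (χ : G → ℂ) (hχ : Cfsg.IsIrrCharacter G χ),
    (∃ g, χ g ≠ χ 1) → ∀ f : ℕ, χ 1 = f → Bound p hd χ (isCharacter_of_isIrr hχ) f := by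
  induction n using Nat.strong_induction_on with
  | _ n ih =>
  intro G _ _ hd hn χ hχ hnt f hf
  classical
  haveI := Fintype.ofFinite G
  haveI : NeZero (p ^ e) := ⟨pow_ne_zero _ hp.out.ne_zero⟩
  have hc := isCharacter_of_isIrr hχ
  by_cases hlin : χ 1 = 1
  · obtain rfl : f = 1 := by rw [hlin] at hf; exact_mod_cast hf.symm
    exact bound_linear hd hc hnt hlin
  obtain ⟨k0, -, hk0⟩ := (Nat.dvd_prime_pow hp.out).mp hd
  have hpG : IsPGroup p G := IsPGroup.of_card hk0
  haveI : Group.IsNilpotent G := hpG.isNilpotent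
  obtain ⟨H, lam, hχH⟩ := Monomial.monomial_of_nilpotent hχ
  haveI := Fintype.ofFinite H
  have hH : H ≠ ⊤ := by
    intro h
    refine hlin ?_
    rw [hχH, indFun_one, map_one, Units.val_one, mul_one, h, Subgroup.index_top, Nat.cast_one]
  obtain ⟨M, hMco, hHM⟩ := (eq_top_or_exists_le_coatom H).resolve_left hH
  haveI hMn : M.Normal := Subgroup.NormalizerCondition.normal_of_coatom M (Group.normalizerCondition_of_isNilpotent (G := G)) hMco
  haveI := Fintype.ofFinite M
  have hMi : M.index = p := by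
    haveI : Nontrivial (G ⧸ M) := QuotientGroup.nontrivial_iff.2 hMco.1
    obtain ⟨w, hw⟩ : ∃ w : G ⧸ M, orderOf w = p := by
      refine exists_prime_orderOf_dvd_card' p ?_
      obtain ⟨j, hj⟩ := (hpG.to_quotient M).exists_card_eq
      rcases Nat.eq_zero_or_pos j with rfl | hj0
      · rw [pow_zero] at hj
        exact absurd hj (Finite.one_lt_card_iff_nontrivial.mpr inferInstance).ne'
      · exact hj ▸ dvd_pow_self p hj0.ne'
    have htop : (Subgroup.zpowers w).comap (QuotientGroup.mk' M) = ⊤ := by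
      refine hMco.2 _ (lt_of_le_of_ne (fun m hm => ?_) ?_)
      · rw [Subgroup.mem_comap, QuotientGroup.mk'_apply, (QuotientGroup.eq_one_iff m).2 hm]
        exact one_mem _
      · intro h
        obtain ⟨x, rfl⟩ := QuotientGroup.mk_surjective w
        have hx : x ∈ (Subgroup.zpowers (x : G ⧸ M)).comap (QuotientGroup.mk' M) :=
          Subgroup.mem_zpowers _
        rw [← h] at hx
        rw [(QuotientGroup.eq_one_iff x).2 hx, orderOf_one] at hw
        exact hp.out.ne_one hw.symm
    have : Subgroup.zpowers w = ⊤ := by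
      rw [← Subgroup.map_comap_eq_self_of_surjective (QuotientGroup.mk'_surjective M)
        (Subgroup.zpowers w), htop, Subgroup.map_top_of_surjective _ (QuotientGroup.mk'_surjective M)]
    rw [Subgroup.index, ← Subgroup.card_top, ← this, Nat.card_zpowers, hw]
  -- `χ` is induced from `M`
  set ψ : M → ℂ := Cfsg.indFun (H.subgroupOf M) (fun x =>
    (lam ⟨(x : M), Subgroup.mem_subgroupOf.mp x.2⟩ : ℂ)) with hψdef
  have hind : Cfsg.indFun M ψ = χ := by
    rw [hψdef, hχH]
    exact indFun_trans H M hHM (fun h => (lam h : ℂ))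
  have hψc : Cfsg.IsCharacter M ψ := by
    rw [hψdef]
    exact isCharacter_indFun _ (isCharacter_comp (Subgroup.subgroupOfEquivOfLe hHM).toMonoidHom
      (isCharacter_linear lam))
  have hcl := char_isClassFunction hc
  have h1inner : Cfsg.classInner (fun m : M => χ m) ψ = 1 := by
    have h := frobenius_reciprocity M ψ hcl
    rw [hind, classInner_isIrr_self hχ] at h
    rw [classInner_conj_symm, ← h, map_one]
  have hψ : Cfsg.IsIrrCharacter M ψ := by
    haveI := Fintype.ofFinite (Cfsg.IrrCharacter M)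
    obtain ⟨θ, hθ1, hθ2⟩ : ∃ θ : Cfsg.IrrCharacter M,
        Cfsg.classInner ψ (θ : M → ℂ) ≠ 0 ∧ Cfsg.classInner (fun m : M => χ m) (θ : M → ℂ) ≠ 0 := by
      by_contra hcon
      push Not at hcon
      have h := h1inner
      rw [classInner_conj_symm, classFun_eq_sum (char_isClassFunction hψc), classInner_sum_left,
        Finset.sum_eq_zero, map_zero] at h
      · exact zero_ne_one h
      · intro θ _
        rw [classInner_smul_left]
        by_cases h0 : Cfsg.classInner ψ (θ : M → ℂ) = 0
        · rw [h0, zero_mul]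
        · rw [classInner_conj_symm (fun m : M => χ m) (θ : M → ℂ), hcon θ h0, map_zero, mul_zero]
    have hle1 : ((θ : M → ℂ) 1).re ≤ (ψ 1).re := irr_degree_le hψc θ.2 hθ1
    have hle2 : (χ 1).re ≤ (Cfsg.indFun M (θ : M → ℂ) 1).re := by
      refine irr_degree_le (isCharacter_indFun M (irr_isCharacter θ)) hχ ?_
      rw [frobenius_reciprocity M _ hcl, classInner_conj_symm]
      intro h0
      exact hθ2 (by simpa using h0)
    rw [← hind, indFun_one, indFun_one] at hle2
    obtain ⟨a, ha⟩ := char_one_nat hψc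
    obtain ⟨b, -, hb⟩ := irr_one_pos θ.2
    rw [ha, hb] at hle2 hle1
    simp only [Complex.natCast_re, ← Nat.cast_mul, Nat.cast_le] at hle1 hle2
    have hab : a = b :=
      le_antisymm (Nat.le_of_mul_le_mul_left hle2 (hMi ▸ hp.out.pos)) hle1
    rw [char_eq_irr_of_degree hψc θ.2 hθ1 (by rw [ha, hb, hab])]
    exact θ.2
  obtain ⟨f', hf'0, hf'⟩ := irr_one_pos hψ
  have hff : f = p * f' := by
    have h := congrFun hind 1
    rw [indFun_one, hf', hf, hMi] at h
    exact_mod_cast h.symm
  have hdM : Nat.card M ∣ p ^ e := (M.card_subgroup_dvd_card).trans hd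
  have hstab : ∀ x : G, conjFun M ψ x = ψ → x ∈ M := by
    intro x hx
    have h := card_mul_classInner_indFun M hψ
    rw [hind, classInner_isIrr_self hχ, mul_one, Nat.cast_inj] at h
    have hsub : ∀ m : M, conjFun M ψ m = ψ := fun m => funext fun y =>
      (congrArg ψ (Subtype.ext rfl)).trans (char_isClassFunction hψc y m)
    let i : M → {g : G // conjFun M ψ g = ψ} := fun m => ⟨m, hsub m⟩
    have hi : Function.Injective i := fun a b hab => Subtype.ext (congrArg Subtype.val hab :)
    obtain ⟨m, hm⟩ := ((Nat.bijective_iff_injective_and_card i).2 ⟨hi, h⟩).2 ⟨x, hx⟩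
    have : (m : G) = x := congrArg Subtype.val hm
    exact this ▸ m.2
  have hnt' : ∃ m, ψ m ≠ ψ 1 := by
    by_contra hall
    push Not at hall
    refine hMco.1 (top_le_iff.mp fun x _ => hstab x (funext fun y => ?_))
    exact (hall _).trans (hall y).symm
  have hlt : Nat.card M < n := by
    rw [← hn, ← M.card_mul_index, hMi]
    exact lt_mul_of_one_lt_right Nat.card_pos hp.out.one_lt
  obtain ⟨s, v', hs, hv', hbd⟩ := ih _ hlt M hdM rfl ψ hψ hnt' f' hf'
  obtain ⟨v, -, hv⟩ := (Nat.dvd_prime_pow hp.out).mp (((charKernel χ hc).index_dvd_card).trans hd)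
  -- twists
  have htwind : ∀ k : (ZMod (p ^ e))ˣ, tw χ k = Cfsg.indFun M (tw ψ k) := by
    intro k
    funext g
    show χ _ = _
    rw [← hind, OddChar.PowTwist.indFun_comp_pow M ψ (val_coprime hd k)]
    congr 1
  have hSle : St hdM ψ ≤ St hd χ := by
    intro k hk
    rw [mem_St] at hk ⊢
    rw [htwind, hk, hind]
  have hconj : ∀ σ ∈ St hd χ, ∃ x : G, tw ψ σ = conjFun M ψ x := by
    intro σ hσ
    refine exists_conjugate_of_constituents M hχ hψ (tw_irr hdM hψ σ)
      (by rw [h1inner]; exact one_ne_zero) ?_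
    have h := frobenius_reciprocity M (tw ψ σ) hcl
    rw [← htwind, mem_St.mp hσ, classInner_isIrr_self hχ] at h
    rw [classInner_conj_symm, ← h, map_one]
    exact one_ne_zero
  -- the kernel
  set K : Subgroup G := (charKernel ψ hψc).map M.subtype with hK
  have hKM : K ≤ M := Subgroup.map_subtype_le _
  have hKi : K.index = p ^ (v' + 1) := by
    rw [hK, Subgroup.index_map_subtype, hv', hMi, pow_succ]
  have hKmem : ∀ m : M, (m : G) ∈ K ↔ ψ m = ψ 1 := fun m => by
    rw [hK, ← mem_charKernel (h := hψc)]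
    exact Subgroup.mem_map_iff_mem M.subtype_injective
  have hcore : ∀ g : G, (∀ y : G, y * g * y⁻¹ ∈ K) → g ∈ charKernel χ hc := by
    intro g hg
    rw [mem_charKernel, ← hind]
    simp only [Cfsg.indFun]
    congr 1
    refine Finset.sum_congr rfl fun y _ => ?_
    have h1 : y⁻¹ * g * y ∈ K := by simpa using hg y⁻¹
    rw [IndBasic.extendByZero_of_mem M ψ (hKM h1),
      IndBasic.extendByZero_of_mem M ψ (g := y⁻¹ * 1 * y) (by simp)]
    refine ((hKmem ⟨_, hKM h1⟩).mp h1).trans (congrArg ψ (Subtype.ext ?_))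
    simp
  have hMK : ∀ m ∈ M, ∀ w ∈ K, m * w * m⁻¹ ∈ K := by
    intro m hm w hw
    have hwM := hKM hw
    refine (hKmem ⟨_, hMn.conj_mem w hwM m⟩).mpr ?_
    exact Eq.trans (Eq.trans (congrArg ψ (Subtype.ext rfl))
      (char_isClassFunction hψc ⟨w, hwM⟩ ⟨m, hm⟩)) ((hKmem ⟨w, hwM⟩).mp hw)
  by_cases hcase : St hd χ ≤ St hdM ψ
  · -- the stabilizers coincide
    refine ⟨s, v, ?_, hv, ?_⟩
    · rw [le_antisymm hcase hSle, hs]
    set fq : G ⧸ M → Subgroup G := fun q => K.comap (MulAut.conj q.out).toMonoidHom with hfq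
    have hfqM : ∀ q, fq q ≤ M := by
      intro q w hw
      have : q.out * w * (q.out)⁻¹ ∈ M := hKM hw
      simpa [mul_assoc] using hMn.conj_mem _ this (q.out)⁻¹
    have hrel : ∀ q, (fq q).relIndex M = p ^ v' := by
      intro q
      have h := Subgroup.relIndex_mul_index (hfqM q)
      rw [hfq] at h ⊢
      simp only at h ⊢
      rw [Subgroup.index_comap_of_surjective K (MulAut.conj (q.out)).surjective, hKi, hMi,
        pow_succ] at h
      exact Nat.eq_of_mul_eq_mul_right hp.out.pos h
    have hle : (⨅ q, fq q) ≤ charKernel χ hc := by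
      intro g hg
      refine hcore g fun y => ?_
      rw [Subgroup.mem_iInf] at hg
      set r : G := (y : G ⧸ M).out with hr
      have hmem : y * r⁻¹ ∈ M := by
        have h1 : (r : G ⧸ M) = (y : G ⧸ M) := QuotientGroup.out_eq' _
        rw [← QuotientGroup.eq_one_iff, QuotientGroup.mk_mul, QuotientGroup.mk_inv, h1,
          mul_inv_cancel]
      have := hMK _ hmem _ (hg (y : G ⧸ M))
      simpa [hr, mul_assoc] using this
    haveI := Fintype.ofFinite (G ⧸ M)
    have hinf : (⨅ q, fq q) ≤ M := (iInf_le fq 1).trans (hfqM 1)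
    have hbound : p ^ v ≤ p ^ (p * v' + 1) := by
      rw [← hv]
      refine le_trans (Nat.le_of_dvd (Nat.pos_of_ne_zero Subgroup.index_ne_zero_of_finite)
        (Subgroup.index_dvd_of_le hle)) ?_
      rw [← Subgroup.relIndex_mul_index hinf, hMi, pow_succ]
      refine Nat.mul_le_mul_right p ((Subgroup.relIndex_iInf_le fq).trans ?_)
      simp only [hrel, Finset.prod_const, Finset.card_univ, ← pow_mul]
      rw [← Nat.card_eq_fintype_card, ← Subgroup.index, hMi, mul_comm]
    have hv2 : v ≤ p * v' + 1 := (Nat.pow_le_pow_iff_right hp.out.one_lt).mp hbound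
    subst hff
    obtain ⟨q, rfl⟩ := Nat.exists_eq_add_of_le hp.out.one_lt.le
    rw [Nat.add_sub_cancel_left] at hbd ⊢
    obtain ⟨F, rfl⟩ := Nat.exists_eq_add_of_le hf'0
    rw [Nat.add_sub_cancel_left] at hbd
    have h1 : (1 + q) * (Nat.succ 0 + F) - 1 = q + (1 + q) * F := by
      rw [show (1 + q) * (Nat.succ 0 + F) = 1 + (q + (1 + q) * F) by
        simp only [Nat.succ_eq_add_one, zero_add]; ring, Nat.add_sub_cancel_left]
    rw [h1]
    have h3 := Nat.mul_le_mul_left q hv2
    have h4 := Nat.mul_le_mul_left (1 + q) hbd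
    nlinarith
  · -- the stabilizer grows
    obtain ⟨σ₀, hσ₀, hσ₀'⟩ := SetLike.not_le_iff_exists.mp hcase
    obtain ⟨x₀, hx₀⟩ := hconj σ₀ hσ₀
    have hx₀M : x₀ ∉ M := fun h => hσ₀' (mem_St.mpr (hx₀.trans (funext fun y =>
      (congrArg ψ (Subtype.ext rfl)).trans (char_isClassFunction hψc y ⟨x₀, h⟩))))
    -- the kernel is normal
    have hKn : ∀ y : G, ∀ w ∈ K, y * w * y⁻¹ ∈ K := by
      have hx₀n : ∀ w ∈ K, x₀ * w * x₀⁻¹ ∈ K := by
        intro w hw
        have h1 := (charKernel_tw hdM hψc σ₀).mpr ((hKmem ⟨w, hKM hw⟩).mp hw)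
        rw [hx₀] at h1
        refine (hKmem ⟨_, hMn.conj_mem w (hKM hw) x₀⟩).mpr (h1.trans ?_)
        exact congrArg ψ (Subtype.ext (by simp))
      let T : Subgroup G :=
        { carrier := {y | ∀ w ∈ K, y * w * y⁻¹ ∈ K}
          one_mem' := fun w hw => by simpa using hw
          mul_mem' := fun {a b} ha hb w hw => by
            simpa [mul_assoc] using ha _ (hb w hw)
          inv_mem' := fun {a} ha w hw => by
            let φ : K → K := fun z => ⟨a * z * a⁻¹, ha z z.2⟩
            have hφ : Function.Injective φ := fun z z' h => by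
              have h' : a * (z : G) * a⁻¹ = a * (z' : G) * a⁻¹ := congrArg Subtype.val h
              exact Subtype.ext (mul_left_cancel (mul_right_cancel h'))
            obtain ⟨z, hz⟩ := (Finite.injective_iff_surjective.mp hφ) ⟨w, hw⟩
            have hz' : a * z * a⁻¹ = w := congrArg Subtype.val hz
            rw [← hz']
            simpa [mul_assoc] using z.2 }
      have hT : T = ⊤ := hMco.2 T (lt_of_le_of_ne (fun m hm => hMK m hm)
        fun h => hx₀M (h.symm ▸ (show x₀ ∈ T from hx₀n)))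
      exact fun y => (hT ▸ Subgroup.mem_top y : y ∈ T)
    have hv2 : v ≤ v' + 1 := by
      refine (Nat.pow_le_pow_iff_right hp.out.one_lt).mp ?_
      rw [← hv, ← hKi]
      exact Nat.le_of_dvd (Nat.pos_of_ne_zero Subgroup.index_ne_zero_of_finite)
        (Subgroup.index_dvd_of_le fun g hg => hcore g fun y => hKn y g hg)
    -- the index grows by exactly `p`
    set S := (St hdM ψ).subgroupOf (St hd χ) with hS
    have hcj : ∀ σ : St hd χ, ∃ x : G, tw ψ (σ : (ZMod (p ^ e))ˣ) = conjFun M ψ x :=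
      fun σ => hconj σ σ.2
    choose xf hxf using hcj
    have hle_p : Nat.card (St hd χ ⧸ S) ≤ p := by
      refine le_trans (Nat.card_le_card_of_injective
        (fun q => (QuotientGroup.mk (xf q.out) : G ⧸ M)) fun q q' h => ?_) (le_of_eq hMi)
      rw [← QuotientGroup.out_eq' q, ← QuotientGroup.out_eq' q', QuotientGroup.eq]
      refine Subgroup.mem_subgroupOf.mpr ?_
      rw [Subgroup.coe_mul, Subgroup.coe_inv]
      rw [← tw_eq_iff hdM, hxf, hxf]
      have hm : xf q'.out * (xf q.out)⁻¹ ∈ M := by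
        rw [← QuotientGroup.eq_one_iff, QuotientGroup.mk_mul, QuotientGroup.mk_inv]
        simp only at h
        rw [h, mul_inv_cancel]
      funext y
      refine Eq.trans (char_isClassFunction hψc _ ⟨_, hm⟩).symm (congrArg ψ (Subtype.ext ?_))
      simp [mul_assoc]
    have hpow : ∀ i : ℕ, tw ψ (σ₀ ^ i) = conjFun M ψ (x₀ ^ i) := by
      intro i
      induction i with
      | zero =>
        rw [pow_zero, pow_zero, tw_one hdM]
        funext y
        exact congrArg ψ (Subtype.ext (by simp))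
      | succ i hi =>
        rw [pow_succ, tw_mul hdM, hx₀]
        funext y
        show ψ _ = _
        have h2 := congrFun hi ⟨x₀ * y * x₀⁻¹, hMn.conj_mem y y.2 x₀⟩
        refine (congrArg ψ (Subtype.ext ?_)).trans (h2.trans (congrArg ψ (Subtype.ext ?_)))
        · simp only [SubmonoidClass.coe_pow]
          rw [conj_pow]
        · simp [pow_succ, mul_assoc]
    have hσp : σ₀ ^ p ∈ St hdM ψ := by
      rw [mem_St, hpow]
      have hxp : x₀ ^ p ∈ M := hMi ▸ M.pow_index_mem x₀
      exact funext fun y =>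
        (congrArg ψ (Subtype.ext rfl)).trans (char_isClassFunction hψc y ⟨_, hxp⟩)
    have hord : orderOf (QuotientGroup.mk ⟨σ₀, hσ₀⟩ : St hd χ ⧸ S) = p := by
      refine orderOf_eq_prime ?_ ?_
      · rw [← QuotientGroup.mk_pow, QuotientGroup.eq_one_iff, hS, Subgroup.mem_subgroupOf]
        exact hσp
      · rw [Ne, QuotientGroup.eq_one_iff, hS, Subgroup.mem_subgroupOf]
        exact hσ₀'
    have hcard : (St hdM ψ).relIndex (St hd χ) = p :=
      le_antisymm hle_p (Nat.le_of_dvd Nat.card_pos (hord.symm.dvd.trans (orderOf_dvd_natCard _)))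
    have hidx := Subgroup.relIndex_mul_index hSle
    rw [hcard, hs] at hidx
    obtain ⟨t, rfl⟩ : ∃ t, s = t + 1 := by
      refine ⟨s - 1, (Nat.succ_pred_eq_of_ne_zero fun h0 => ?_).symm⟩
      subst h0
      rw [pow_zero, mul_one] at hidx
      have h2 : p ∣ p - 1 := hidx ▸ dvd_mul_right p _
      have := Nat.le_of_dvd (Nat.sub_pos_of_lt hp.out.one_lt) h2
      have := hp.out.pos
      omega
    refine ⟨t, v, ?_, hv, ?_⟩
    · refine Nat.eq_of_mul_eq_mul_left hp.out.pos ?_
      rw [hidx, pow_succ]; ring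
    subst hff
    obtain ⟨q, rfl⟩ := Nat.exists_eq_add_of_le hp.out.one_lt.le
    rw [Nat.add_sub_cancel_left] at hbd ⊢
    obtain ⟨F, rfl⟩ := Nat.exists_eq_add_of_le hf'0
    rw [Nat.add_sub_cancel_left] at hbd
    have h1 : (1 + q) * (Nat.succ 0 + F) - 1 = q + (1 + q) * F := by
      rw [show (1 + q) * (Nat.succ 0 + F) = 1 + (q + (1 + q) * F) by
        simp only [Nat.succ_eq_add_one, zero_add]; ring, Nat.add_sub_cancel_left]
    rw [h1]
    have h3 := Nat.mul_le_mul_left q hv2
    have hq : 1 ≤ q := by have := hp.out.one_lt; omega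
    nlinarith [Nat.mul_le_mul hq (Nat.le_refl ((t + 1) * (F + 1) * q)),
      Nat.zero_le (q * F), Nat.zero_le (F * t * q)]

theorem bound {p : ℕ} [Fact p.Prime] {e : ℕ} {G : Type u} [Group G] [Finite G]
    (hd : Nat.card G ∣ p ^ e) {χ : G → ℂ} (hχ : Cfsg.IsIrrCharacter G χ) (hnt : ∃ g, χ g ≠ χ 1)
    {f : ℕ} (hf : χ 1 = f) : Bound p hd χ (isCharacter_of_isIrr hχ) f :=
  bound_aux p e _ G hd rfl χ hχ hnt f hf

end Cfsg.Agent.BlockCharsA.PBound
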