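import Mathlib
import Cfsg.Agent.BlockCharsA.PBound.Induct

/-!
Rational valued characters of `p`-groups.
-/

set_option autoImplicit false
set_option linter.style.haveILetI false

namespace Cfsg.Agent.BlockCharsA.PBound

open Cfsg.Agent.Characters Cfsg.Agent.CharTheory

universe u

variable {G : Type u} [Group G] {N : ℕ}

theorem classInner_tw [Fintype G] [NeZero N] (hd : Nat.card G ∣ N) (φ ψ : G → ℂ) (k : (ZMod N)ˣ) :
    Cfsg.classInner (tw φ k) (tw ψ k) = Cfsg.classInner φ ψ := by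
  rw [classInner_def, classInner_def]
  congr 1
  exact Fintype.sum_equiv (powCoprime (G := G) (val_coprime hd k).symm) _ _ fun g => rfl

/-- The order of `Q / ker ξ` for a rational valued character `ξ` of a `p`-group `Q`. -/
theorem rational_bound {p : ℕ} [hp : Fact p.Prime] {e : ℕ} {Q : Type u} [Group Q] [Finite Q]
    (hd : Nat.card Q ∣ p ^ e) {ξ : Q → ℂ} (hξ : Cfsg.IsCharacter Q ξ)
    (hinv : ∀ k : ℕ, k.Coprime p → ∀ g, ξ (g ^ k) = ξ g) {n : ℕ} (hn : ξ 1 = n) :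
    (charKernel ξ hξ).index.factorization p ≤ hfun p (n / (p - 1)) := by
  classical
  haveI := Fintype.ofFinite Q
  haveI := Fintype.ofFinite (Cfsg.IrrCharacter Q)
  haveI : NeZero (p ^ e) := ⟨pow_ne_zero _ hp.out.ne_zero⟩
  let U := (ZMod (p ^ e))ˣ
  have htwξ : ∀ k : U, tw ξ k = ξ := by
    intro k
    rcases Nat.eq_zero_or_pos e with rfl | he
    · funext g
      have h1 : g = 1 := by
        have := pow_eq_one_of_dvd hd g
        rwa [pow_zero, pow_one] at this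
      subst h1
      exact congrArg ξ (one_pow _)
    · refine funext fun g => hinv _ ?_ g
      exact (ZMod.val_coe_unit_coprime k).coprime_dvd_right (dvd_pow_self p he.ne')
  let twI : Cfsg.IrrCharacter Q → U → Cfsg.IrrCharacter Q := fun ψ k => ⟨_, tw_irr hd ψ.2 k⟩
  let O : Cfsg.IrrCharacter Q → Finset (Cfsg.IrrCharacter Q) := fun ψ =>
    (Finset.univ : Finset U).image (twI ψ)
  let C : Finset (Cfsg.IrrCharacter Q) := Finset.univ.filter fun ψ : Cfsg.IrrCharacter Q =>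
    Cfsg.classInner ξ (ψ : Q → ℂ) ≠ 0 ∧ ∃ g, (ψ : Q → ℂ) g ≠ (ψ : Q → ℂ) 1
  have hinner : ∀ (ψ : Cfsg.IrrCharacter Q) (k : U),
      Cfsg.classInner ξ (twI ψ k : Q → ℂ) = Cfsg.classInner ξ (ψ : Q → ℂ) := by
    intro ψ k
    conv_lhs => rw [← htwξ k]
    exact classInner_tw hd ξ _ k
  have hker : ∀ (ψ : Cfsg.IrrCharacter Q) (k : U) (g : Q),
      (twI ψ k : Q → ℂ) g = (twI ψ k : Q → ℂ) 1 ↔ (ψ : Q → ℂ) g = (ψ : Q → ℂ) 1 :=
    fun ψ k g => charKernel_tw hd (irr_isCharacter ψ) k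
  have hOeq : ∀ (ψ : Cfsg.IrrCharacter Q) (k : U), O (twI ψ k) = O ψ := by
    intro ψ k
    ext φ
    simp only [O, Finset.mem_image, Finset.mem_univ, true_and]
    constructor
    · rintro ⟨l, rfl⟩
      exact ⟨l * k, Subtype.ext (tw_mul hd _ l k)⟩
    · rintro ⟨l, rfl⟩
      refine ⟨l * k⁻¹, Subtype.ext ?_⟩
      show tw (tw (ψ : Q → ℂ) k) (l * k⁻¹) = tw (ψ : Q → ℂ) l
      rw [← tw_mul hd, inv_mul_cancel_right]
  have hself : ∀ ψ, ψ ∈ O ψ := fun ψ => Finset.mem_image.mpr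
    ⟨1, Finset.mem_univ _, Subtype.ext (tw_one hd _)⟩
  have hOC : ∀ ψ ∈ C, ∀ φ ∈ O ψ, φ ∈ C ∧ O φ = O ψ ∧
      (φ : Q → ℂ) 1 = (ψ : Q → ℂ) 1 ∧
      ∀ g, ((φ : Q → ℂ) g = (φ : Q → ℂ) 1 ↔ (ψ : Q → ℂ) g = (ψ : Q → ℂ) 1) := by
    intro ψ hψ φ hφ
    obtain ⟨k, -, rfl⟩ := Finset.mem_image.mp hφ
    obtain ⟨-, hne, g, hg⟩ := Finset.mem_filter.mp hψ
    refine ⟨Finset.mem_filter.mpr ⟨Finset.mem_univ _, ?_, g, fun h => hg ((hker ψ k g).mp h)⟩,
      hOeq ψ k, congrArg (ψ : Q → ℂ) (one_pow _), hker ψ k⟩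
    rw [hinner]; exact hne
  set T := C.image O with hT
  have hrep : ∀ o : T, ∃ ψ ∈ C, O ψ = (o : Finset (Cfsg.IrrCharacter Q)) :=
    fun o => Finset.mem_image.mp o.2
  choose r hrC hrO using hrep
  have hdata : ∀ o : T, ∃ j t v, ((r o : Cfsg.IrrCharacter Q) : Q → ℂ) 1 = ((p ^ j : ℕ) : ℂ) ∧
      (St hd (r o : Q → ℂ)).index = (p - 1) * p ^ t ∧
      (charKernel (r o : Q → ℂ) (irr_isCharacter (r o))).index = p ^ v ∧
      v ≤ hfun p (p ^ (j + t)) := by
    intro o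
    obtain ⟨f, hf, -, hdvd⟩ := irr_degree_dvd_card (r o).2
    obtain ⟨j, -, rfl⟩ := (Nat.dvd_prime_pow hp.out).mp (hdvd.trans hd)
    obtain ⟨-, -, hnt⟩ := Finset.mem_filter.mp (hrC o)
    obtain ⟨t, v, h1, h2, h3⟩ := bound hd (r o).2 hnt hf
    exact ⟨j, t, v, hf, h1, h2, le_hfun_pow p j t v h3⟩
  choose j t v hdeg hSt hidx hv using hdata
  have hcard : ∀ ψ : Cfsg.IrrCharacter Q, (O ψ).card = (St hd (ψ : Q → ℂ)).index := by
    intro ψ
    rw [← Nat.card_eq_finsetCard, Subgroup.index]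
    refine (Nat.card_eq_of_bijective (fun q : U ⧸ St hd (ψ : Q → ℂ) =>
      (⟨twI ψ q.out, Finset.mem_image.mpr ⟨_, Finset.mem_univ _, rfl⟩⟩ : O ψ)) ⟨?_, ?_⟩).symm
    · intro q q' h
      have h' : tw (ψ : Q → ℂ) q.out = tw (ψ : Q → ℂ) q'.out :=
        congrArg (fun x : O ψ => ((x : Cfsg.IrrCharacter Q) : Q → ℂ)) h
      rw [← QuotientGroup.out_eq' q, ← QuotientGroup.out_eq' q', QuotientGroup.eq]
      exact (tw_eq_iff hd _ _ _).mp h'
    · rintro ⟨φ, hφ⟩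
      obtain ⟨k, -, rfl⟩ := Finset.mem_image.mp hφ
      refine ⟨QuotientGroup.mk k, Subtype.ext (Subtype.ext ?_)⟩
      exact (tw_eq_iff hd _ _ _).mpr (QuotientGroup.eq.mp (QuotientGroup.out_eq' _))
  -- the degree
  have hdegsum : ∑ o : T, (p - 1) * p ^ (j o + t o) ≤ n := by
    have hm : ∀ ψ : Cfsg.IrrCharacter Q, ∃ m : ℕ, Cfsg.classInner ξ (ψ : Q → ℂ) = (m : ℂ) :=
      fun ψ => classInner_char_nat hξ (irr_isCharacter ψ)
    choose m hm using hm
    have hd1 : ∀ ψ : Cfsg.IrrCharacter Q, ∃ d : ℕ, 0 < d ∧ (ψ : Q → ℂ) 1 = (d : ℂ) :=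
      fun ψ => irr_one_pos ψ.2
    choose d _ hd1 using hd1
    have hn' : n = ∑ ψ : Cfsg.IrrCharacter Q, m ψ * d ψ := by
      have h := congrFun (classFun_eq_sum (char_isClassFunction hξ)) 1
      simp only [Finset.sum_apply, Pi.smul_apply, smul_eq_mul, hm, hd1, hn] at h
      exact_mod_cast h
    have h2 : ∀ o : T, (p - 1) * p ^ (j o + t o) =
        ∑ ψ ∈ C.filter (fun ψ => O ψ = (o : Finset (Cfsg.IrrCharacter Q))), d ψ := by
      intro o
      have hset : C.filter (fun ψ => O ψ = (o : Finset (Cfsg.IrrCharacter Q))) = O (r o) := by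
        ext φ
        rw [Finset.mem_filter, hrO]
        refine ⟨fun h => h.2 ▸ hself φ, fun h => ?_⟩
        obtain ⟨h1, h2, -, -⟩ := hOC _ (hrC o) φ (by rw [hrO]; exact h)
        exact ⟨h1, h2.trans (hrO o)⟩
      have hconst : ∀ φ ∈ O (r o), d φ = p ^ j o := by
        intro φ hφ
        obtain ⟨-, -, h3, -⟩ := hOC _ (hrC o) φ hφ
        rw [hd1, hdeg] at h3
        exact_mod_cast h3
      rw [hset, Finset.sum_congr rfl hconst, Finset.sum_const, hcard, hSt, smul_eq_mul, pow_add]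
      ring
    simp only [h2]
    rw [Finset.univ_eq_attach,
      Finset.sum_attach T (fun o => ∑ ψ ∈ C.filter (fun ψ => O ψ = o), d ψ),
      Finset.sum_fiberwise_of_maps_to (fun ψ hψ => Finset.mem_image_of_mem O hψ) d, hn']
    refine le_trans (Finset.sum_le_sum fun ψ hψ => ?_)
      (Finset.sum_le_sum_of_subset (Finset.subset_univ C))
    have hm0 : m ψ ≠ 0 := fun h0 => (Finset.mem_filter.mp hψ).2.1 (by rw [hm, h0, Nat.cast_zero])
    exact Nat.le_mul_of_pos_left _ (Nat.pos_of_ne_zero hm0)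
  -- the kernel
  let K : T → Subgroup Q := fun o => charKernel (r o : Q → ℂ) (irr_isCharacter (r o))
  have hle : (⨅ o, K o) ≤ charKernel ξ hξ := by
    intro g hg
    rw [Subgroup.mem_iInf] at hg
    rw [mem_charKernel, classFun_eq_sum (char_isClassFunction hξ)]
    simp only [Finset.sum_apply, Pi.smul_apply, smul_eq_mul]
    refine Finset.sum_congr rfl fun ψ _ => ?_
    by_cases hψ : ψ ∈ C
    · set o : T := ⟨O ψ, Finset.mem_image_of_mem O hψ⟩ with ho
      obtain ⟨-, -, -, h4⟩ := hOC _ (hrC o) ψ (by rw [hrO]; exact hself ψ)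
      rw [(h4 g).mpr (mem_charKernel.mp (hg o))]
    · by_cases h0 : Cfsg.classInner ξ (ψ : Q → ℂ) = 0
      · rw [h0, zero_mul, zero_mul]
      · have : ¬ ∃ g, (ψ : Q → ℂ) g ≠ (ψ : Q → ℂ) 1 :=
          fun h => hψ (Finset.mem_filter.mpr ⟨Finset.mem_univ _, h0, h⟩)
        push Not at this
        rw [this g]
  obtain ⟨a, -, ha⟩ := (Nat.dvd_prime_pow hp.out).mp (((charKernel ξ hξ).index_dvd_card).trans hd)
  rw [ha, hp.out.factorization_pow, Finsupp.single_eq_same]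
  have hav : p ^ a ≤ p ^ ∑ o : T, v o := by
    rw [← ha, ← Finset.prod_pow_eq_pow_sum]
    refine le_trans (Nat.le_of_dvd (Nat.pos_of_ne_zero Subgroup.index_ne_zero_of_finite)
      (Subgroup.index_dvd_of_le hle)) ((Subgroup.index_iInf_le K).trans_eq ?_)
    exact Finset.prod_congr rfl fun o _ => hidx o
  refine ((Nat.pow_le_pow_iff_right hp.out.one_lt).mp hav).trans ?_
  refine (Finset.sum_le_sum fun o _ => hv o).trans ((hfun_sum p _ _).trans (hfun_mono p ?_))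
  rw [Nat.le_div_iff_mul_le (Nat.sub_pos_of_lt hp.out.one_lt), Finset.sum_mul]
  refine le_trans (le_of_eq (Finset.sum_congr rfl fun o _ => ?_)) hdegsum
  exact mul_comm _ _

end Cfsg.Agent.BlockCharsA.PBound
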